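import Groth.Agent.StrictSSLib.Fibre
import Groth.Prelude.Def_SSMod
import Groth.Agent.FlatLocus.PointScheme
import Groth.Agent.FlatLocus.DescentPoint

/-!
# Strictly semistable curves are semistable
-/

set_option autoImplicit false
set_option backward.isDefEq.respectTransparency false
set_option linter.style.haveILetI false

universe u

open CategoryTheory CategoryTheory.Limits AlgebraicGeometry IsLocalRing Groth.Agent

noncomputable section

namespace Groth.Agent.StrictSSLib

variable {C D S : Scheme.{u}}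

/-- The line chart is smooth. -/
theorem smooth_of_lineChart {A : CommRingCat.{u}} (j : Spec A ⟶ S) [IsOpenImmersion j] {V : Scheme.{u}} (q : V ⟶ Spec A)
    (f : V ⟶ Spec (CommRingCat.of (Polynomial A))) [Etale f] (hf : f ≫ StrictSS.lineToBase A = q) : Smooth (q ≫ j) := by
  haveI : Smooth (StrictSS.lineToBase A) := by
    rw [HasRingHomProperty.Spec_iff (P := @Smooth), CommRingCat.hom_ofHom,
      show (Polynomial.C : A →+* Polynomial A) = algebraMap A (Polynomial A) from Polynomial.algebraMap_eq.symm,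
      RingHom.smooth_algebraMap]
    exact ⟨inferInstance, inferInstance⟩
  rw [← hf]
  infer_instance

theorem smooth_nhd_lineChart (φ : C ⟶ S) (i : D ⟶ C) {x : C} (h : StrictSS.HasLineChartAt φ i x) :
    ∃ U : C.Opens, x ∈ U ∧ Smooth (U.ι ≫ φ) := by
  obtain ⟨A, j, hj, U, hx, q, hq, f, fD, hf, hfq, -, -⟩ := h
  haveI := hf
  exact ⟨U, hx, by rw [hq]; exact smooth_of_lineChart j q f hfq⟩

theorem nonsmooth_disjoint (φ : C ⟶ S) [LocallyOfFinitePresentation φ] (i : D ⟶ C)
    (h : ∀ x : C, StrictSS.HasLineChartAt φ i x ∨ StrictSS.HasNodeChartAt φ i x) :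
    Disjoint (Set.range (i.base : D → C)) (DualGr.nonsmoothPts φ) := by
  rw [Set.disjoint_left]
  rintro _ ⟨d, rfl⟩ hns
  rcases h (i d) with hl | ⟨A, j, _, U, hx, q, hq, a, f, hf, hfq, hdis⟩
  · exact hns ((FlatLocus.exists_smooth_nhd_iff φ _).1 (smooth_nhd_lineChart φ i hl))
  · exact Set.disjoint_left.1 hdis ⟨d, rfl⟩ hx

theorem etale_marked (φ : C ⟶ S) (i : D ⟶ C)
    (h : ∀ x : C, StrictSS.HasLineChartAt φ i x ∨ StrictSS.HasNodeChartAt φ i x) : Etale (i ≫ φ) := by
  have key : ∀ d : D, ∃ V : D.Opens, d ∈ V ∧ Etale (V.ι ≫ i ≫ φ) := fun d => by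
    rcases h (i d) with ⟨A, j, hj, U, hx, q, hq, f, fD, hf, hfq, hfD, he⟩ |
      ⟨A, j, hj, U, hx, q, hq, a, f, hf, hfq, hdis⟩
    · haveI := hfD
      haveI := hj
      refine ⟨i ⁻¹ᵁ U, hx, ?_⟩
      have h1 : (i ⁻¹ᵁ U).ι ≫ i ≫ φ = fD ≫ j := by
        have hz : StrictSS.lineZero A ≫ StrictSS.lineToBase A = 𝟙 _ := by
          rw [← Spec.map_comp, ← CommRingCat.ofHom_comp, ← Spec.map_id]
          congr 1
          exact CommRingCat.hom_ext (RingHom.ext fun r => by simp)
        rw [← Category.assoc, ← morphismRestrict_ι i U, Category.assoc, hq, ← hfq, ← Category.assoc,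
          ← Category.assoc, ← he, Category.assoc fD, hz]
        exact congrArg (· ≫ j) (Category.comp_id fD)
      rw [h1]
      infer_instance
    · exact absurd hx (Set.disjoint_left.1 hdis ⟨d, rfl⟩)
  choose V hV hVe using key
  exact IsZariskiLocalAtSource.of_iSup_eq_top V (top_le_iff.1 fun d _ => TopologicalSpace.Opens.mem_iSup.2 ⟨d, hV d⟩) hVe

theorem atWorstNodal (φ : C ⟶ S) [LocallyOfFinitePresentation φ] (i : D ⟶ C)
    (h : ∀ x : C, StrictSS.HasLineChartAt φ i x ∨ StrictSS.HasNodeChartAt φ i x) (s : S) :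
    @Curv2.AtWorstNodal (S.residueField s) _ (φ.fiber s) ⟨φ.fiberToSpecResidueField s⟩ := by
  letI : (φ.fiber s).Over (Spec (CommRingCat.of (S.residueField s))) := ⟨φ.fiberToSpecResidueField s⟩
  haveI : LocallyOfFiniteType (φ.fiber s ↘ Spec (CommRingCat.of (S.residueField s))) :=
    inferInstanceAs (LocallyOfFiniteType (pullback.snd φ _))
  intro x hx
  rcases h (φ.fiberι s x) with hl | ⟨A, j, hj, U, hxU, q, hq, a, f, hf, hfq, -⟩
  · exact Or.inl (FlatLocus.exists_nhd_of_isPullback (P := @Smooth)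
      (IsPullback.of_hasPullback φ (S.fromSpecResidueField s)) x (smooth_nhd_lineChart φ i hl))
  · haveI := hf
    haveI := hj
    haveI : LocallyOfFinitePresentation (q ≫ j) := by rw [← hq]; infer_instance
    have hG : @Curv2.AtWorstNodal (S.residueField s) _ ((U.ι ≫ φ).fiber s) ⟨(U.ι ≫ φ).fiberToSpecResidueField s⟩ := by
      rw [hq]; exact atWorstNodal_fibre j q a f hfq s
    letI : ((U.ι ≫ φ).fiber s).Over (Spec (CommRingCat.of (S.residueField s))) :=
      ⟨(U.ι ≫ φ).fiberToSpecResidueField s⟩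
    obtain ⟨z, hz⟩ := NodalLib.exists_fibreMap_eq φ U.ι s (y := ⟨φ.fiberι s x, hxU⟩) (x := x) rfl
    rw [← hz] at hx ⊢
    exact NodalLib.node_or_smooth_of_etale (k := S.residueField s) (NodalLib.fibreMap φ U.ι s) (NodalLib.fibreMap_snd φ U.ι s) hG z hx

/-- Strictly semistable curves are semistable. -/
theorem isSemistable (φ : C ⟶ S) (i : D ⟶ C) (h : StrictSS.IsStrictlySemistable φ i) : SSMod.IsSemistable φ i := by
  obtain ⟨hmp, hch⟩ := h
  have hfl : Flat φ := hmp.1
  haveI : LocallyOfFinitePresentation φ := hmp.2.1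
  exact ⟨hmp, ⟨hfl, inferInstance, fun s => ⟨fun Z hZ => by exact_mod_cast hmp.2.2.2.2.1 s Z hZ, atWorstNodal φ i hch s⟩⟩,
    etale_marked φ i hch, nonsmooth_disjoint φ i hch⟩

end Groth.Agent.StrictSSLib
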