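import Groth.Agent.StrictSSLib.Main
import Groth.Agent.RedSepLib.Basic
import Groth.Agent.FinCondEasy.Components
import Groth.Agent.ASp.GeomRedEt
import Groth.Agent.RegLocal.Basic
/-!
The irreducible components of a strictly semistable curve over a field are smooth.
-/

set_option autoImplicit false
set_option backward.isDefEq.respectTransparency false

universe u

open CategoryTheory CategoryTheory.Limits AlgebraicGeometry TopologicalSpace

namespace Groth.Agent.StrictSSLib

variable (A : Type u) [CommRing A]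

/-- The `i`-th axis of the node with parameter zero. -/
noncomputable def axisHom (i : Fin 2) : StrictSS.NodeAlg A (0 : A) →ₐ[A] Polynomial A :=
  coLift A 0 (fun j => if j = i then 0 else Polynomial.X) (by fin_cases i <;> simp)

theorem axisHom_surjective (i : Fin 2) : Function.Surjective (axisHom A i) := by
  intro p
  induction p using Polynomial.induction_on' with
  | add p q hp hq =>
    obtain ⟨a, rfl⟩ := hp
    obtain ⟨b, rfl⟩ := hq
    exact ⟨a + b, map_add _ _ _⟩
  | monomial n c =>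
    obtain ⟨j, hj⟩ : ∃ j : Fin 2, j ≠ i := exists_ne i
    refine ⟨algebraMap A _ c * co A (0 : A) j ^ n, ?_⟩
    rw [map_mul, map_pow, AlgHom.commutes, axisHom, coLift_co, if_neg hj, ← Polynomial.C_mul_X_pow_eq_monomial,
      Polynomial.algebraMap_eq]

theorem ker_axisHom_le (i : Fin 2) :
    RingHom.ker (axisHom A i) ≤ Ideal.span {co A (0 : A) i} := by
  obtain ⟨j, hj⟩ : ∃ j : Fin 2, j ≠ i := exists_ne i
  let π : StrictSS.NodeAlg A (0 : A) →+* StrictSS.NodeAlg A (0 : A) ⧸ Ideal.span {co A (0 : A) i} :=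
    Ideal.Quotient.mk _
  let s : Polynomial A →+* (StrictSS.NodeAlg A (0 : A) ⧸ Ideal.span {co A (0 : A) i}) := Polynomial.eval₂RingHom (π.comp (algebraMap A _)) (π (co A (0 : A) j))
  have hz : π (co A (0 : A) i) = 0 := Ideal.Quotient.eq_zero_iff_mem.2 (Ideal.mem_span_singleton_self _)
  have h : s.comp (axisHom A i).toRingHom = π := by
    refine hom_ext A (0 : A) (B := StrictSS.NodeAlg A (0 : A) ⧸ Ideal.span {co A (0 : A) i}) _ _ (RingHom.ext fun r => ?_) fun l => ?_
    · simp [s]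
    · simp only [RingHom.comp_apply, AlgHom.toRingHom_eq_coe, RingHom.coe_coe, axisHom, coLift_co]
      by_cases hl : l = i
      · subst hl
        rw [if_pos rfl, hz]
        exact map_zero s
      · obtain rfl : l = j := by omega
        rw [if_neg hl]
        simp [s]
  intro r hr
  have := RingHom.congr_fun h r
  rw [RingHom.comp_apply, show (axisHom A i).toRingHom r = 0 from hr] at this
  exact Ideal.Quotient.eq_zero_iff_mem.1 (this.symm.trans (map_zero s))

/-- Every point of a strictly semistable curve over a field has a neighbourhood covered by smooth closed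
subschemes. -/
theorem exists_smooth_branches {k : Type u} [Field k] {C D : Scheme.{u}} (φ : C ⟶ Spec (CommRingCat.of k))
    (i : D ⟶ C) (h : ∀ x : C, StrictSS.HasLineChartAt φ i x ∨ StrictSS.HasNodeChartAt φ i x) (x : C) :
    ∃ (U : C.Opens) (_ : x ∈ U) (F : Fin 2 → Scheme.{u}) (e : ∀ m, F m ⟶ U.toScheme),
      (∀ m, IsClosedImmersion (e m) ∧ Smooth (e m ≫ U.ι ≫ φ)) ∧
      ∀ y : U.toScheme, ∃ m, y ∈ Set.range (e m) := by
  have triv : ∀ U : C.Opens, x ∈ U → Smooth (U.ι ≫ φ) →
      ∃ (U : C.Opens) (_ : x ∈ U) (F : Fin 2 → Scheme.{u}) (e : ∀ m, F m ⟶ U.toScheme),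
        (∀ m, IsClosedImmersion (e m) ∧ Smooth (e m ≫ U.ι ≫ φ)) ∧
        ∀ y : U.toScheme, ∃ m, y ∈ Set.range (e m) := fun U hx hs =>
    ⟨U, hx, fun _ => U.toScheme, fun _ => 𝟙 _, fun _ => ⟨inferInstance, by rw [Category.id_comp]; exact hs⟩,
      fun y => ⟨0, y, rfl⟩⟩
  rcases h x with hl | ⟨A, j, hj, U, hx, q, hq, a, f, hf, hfq, -⟩
  · obtain ⟨U, hxU, hU⟩ := smooth_nhd_lineChart φ i hl
    exact triv U hxU hU
  haveI := hf
  haveI := hj
  haveI : Surjective j := ⟨fun z => ⟨q ⟨x, hx⟩, Subsingleton.elim _ _⟩⟩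
  haveI : IsIso j := IsOpenImmersion.isIso j
  have hA : IsField A := MulEquiv.isField (Field.toIsField k)
    (((Scheme.ΓSpecIso (CommRingCat.of k)).symm ≪≫ asIso j.appTop ≪≫
      Scheme.ΓSpecIso A).commRingCatIsoToRingEquiv.toMulEquiv).symm
  by_cases ha : a = 0
  · subst ha
    let c : Fin 2 → (Spec (CommRingCat.of (Polynomial A)) ⟶ Spec (CommRingCat.of (StrictSS.NodeAlg A (0 : A)))) :=
      fun m => Spec.map (CommRingCat.ofHom (axisHom A m).toRingHom)
    haveI hc : ∀ m, IsClosedImmersion (c m) := fun m => IsClosedImmersion.spec_of_surjective _ (axisHom_surjective A m)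
    have hcb : ∀ m, c m ≫ StrictSS.nodeToBase A (0 : A) = StrictSS.lineToBase A := fun m => by
      rw [← Spec.map_comp, ← CommRingCat.ofHom_comp, AlgHom.toRingHom_eq_coe, AlgHom.comp_algebraMap,
        Polynomial.algebraMap_eq]
    refine ⟨U, hx, fun m => pullback f (c m), fun m => pullback.fst f (c m), fun m => ⟨inferInstance, ?_⟩, fun y => ?_⟩
    · have h1 : pullback.fst f (c m) ≫ U.ι ≫ φ = (pullback.snd f (c m) ≫ StrictSS.lineToBase A) ≫ j := by
        rw [hq, ← hfq, Category.assoc f, ← Category.assoc, pullback.condition, Category.assoc, ← Category.assoc (c m),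
          hcb, Category.assoc]
      rw [h1]
      exact smooth_of_lineChart j _ (pullback.snd f (c m)) rfl
    · obtain ⟨m, hm⟩ : ∃ m, co A (0 : A) m ∈ (f y).asIdeal := by
        have h0 : co A (0 : A) 0 * co A (0 : A) 1 ∈ (f y).asIdeal := by
          rw [co_mul]; simp
        rcases (f y).2.mem_or_mem h0 with h | h
        exacts [⟨0, h⟩, ⟨1, h⟩]
      refine ⟨m, ?_⟩
      rw [Scheme.Pullback.range_fst, Set.mem_preimage]
      show f y ∈ Set.range (PrimeSpectrum.comap (axisHom A m).toRingHom)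
      rw [range_comap_of_surjective _ _ (axisHom_surjective A m), PrimeSpectrum.mem_zeroLocus]
      exact ((ker_axisHom_le A m).trans ((Ideal.span_singleton_le_iff_mem _).2 hm))
  · have hau : IsUnit a := isUnit_iff_exists_inv.2 (hA.mul_inv_cancel ha)
    have hn : co A a 0 ∉ (f ⟨x, hx⟩).asIdeal := fun hm => (f ⟨x, hx⟩).2.ne_top
      (Ideal.eq_top_of_isUnit_mem _ (Ideal.mul_mem_right (co A a 1) _ hm) (by rw [co_mul]; exact hau.map _))
    obtain ⟨V, hV, hVs⟩ := smooth_nhd A a 0 (f ⟨x, hx⟩) hn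
    haveI := hVs
    refine triv (U.ι ''ᵁ (f ⁻¹ᵁ V)) ⟨⟨x, hx⟩, hV, rfl⟩ ?_
    have h1 : (U.ι.isoImage (f ⁻¹ᵁ V)).inv ≫ (f ⁻¹ᵁ V).ι ≫ U.ι ≫ φ = (U.ι ''ᵁ (f ⁻¹ᵁ V)).ι ≫ φ := by
      rw [← Category.assoc, ← Category.assoc, Category.assoc _ _ U.ι, Scheme.Hom.isoImage_inv_ι]
    rw [← h1, hq, ← hfq, Category.assoc f, ← Category.assoc (f ⁻¹ᵁ V).ι, ← morphismRestrict_ι, Category.assoc,
      ← Category.assoc V.ι]
    infer_instance

/-- The irreducible components of a strictly semistable curve over a field are smooth. -/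
theorem smooth_component {k : Type u} [Field k] {C D : Scheme.{u}} (φ : C ⟶ Spec (CommRingCat.of k))
    [LocallyOfFinitePresentation φ]
    (i : D ⟶ C) (h : ∀ x : C, StrictSS.HasLineChartAt φ i x ∨ StrictSS.HasNodeChartAt φ i x)
    (Z : Set C) (hZ : Z ∈ irreducibleComponents (C : Type u)) :
    ∃ (W : Scheme.{u}) (e : W ⟶ C), IsClosedImmersion e ∧ IsReduced W ∧
      Set.range e.base = Z ∧ Smooth (e ≫ φ) := by
  let T : Closeds C := ⟨Z, isClosed_of_mem_irreducibleComponents _ hZ⟩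
  let e := (Scheme.IdealSheafData.vanishingIdeal T).subschemeι
  have he : Set.range e = Z := by
    rw [Scheme.IdealSheafData.range_subschemeι, Scheme.IdealSheafData.coe_support_vanishingIdeal]
    rfl
  haveI := DVRCrit.isReduced_vanishingIdeal T
  refine ⟨_, e, inferInstance, inferInstance, he, ?_⟩
  have key : ∀ w, ∃ W : (Scheme.IdealSheafData.vanishingIdeal T).subscheme.Opens, w ∈ W ∧ Smooth (W.ι ≫ e ≫ φ) := by
    intro w
    have hxZ : e w ∈ Z := he ▸ ⟨w, rfl⟩
    obtain ⟨U, hxU, F, ε, hε, hcov⟩ := exists_smooth_branches φ i h (e w)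
    haveI hci : ∀ m, IsClosedImmersion (ε m) := fun m => (hε m).1
    -- one branch contains the component near the point
    have hZU : IsPreirreducible (U.ι ⁻¹' Z) := hZ.1.2.preimage U.ι.isOpenEmbedding
    obtain ⟨m, hm⟩ : ∃ m, U.ι ⁻¹' Z ⊆ Set.range (ε m) := by
      rcases (isPreirreducible_iff_isClosed_union_isClosed.1 hZU) _ _
          (ε 0).isClosedEmbedding.isClosed_range (ε 1).isClosedEmbedding.isClosed_range (fun y _ => by
            obtain ⟨m, hm⟩ := hcov y
            fin_cases m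
            exacts [Or.inl hm, Or.inr hm]) with h0 | h1
      exacts [⟨0, h0⟩, ⟨1, h1⟩]
    haveI := (hε m).2
    obtain ⟨z, hz⟩ := hm (show (⟨e w, hxU⟩ : U.toScheme) ∈ U.ι ⁻¹' Z from hxZ)
    haveI : IsLocallyNoetherian (F m) := LocallyOfFiniteType.isLocallyNoetherian (ε m ≫ U.ι ≫ φ)
    have hreg := ASp.isRegularLocalRing_stalk_of_smooth_field (ε m ≫ U.ι ≫ φ)
    haveI : ∀ t : F m, IsDomain ((F m).presheaf.stalk t) := fun t => by
      haveI := hreg t
      exact RegLocal.isDomain _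
    haveI : IsReduced (F m) := isReduced_of_isReduced_stalk _
    obtain ⟨N, hzN, hN⟩ := FinCondEasy.exists_irreducible_nhd (F m) z (by
      rw [nilradical_eq_zero]; exact Ideal.isPrime_bot)
    obtain ⟨O₀, hO₀, hNO⟩ := (ε m).isEmbedding.isInducing.isOpen_iff.1 N.isOpen
    let O : C.Opens := ⟨U.ι '' O₀, U.ι.isOpenEmbedding.isOpenMap _ hO₀⟩
    have hzO : ε m z ∈ O₀ := hNO.ge hzN
    have hxO : e w ∈ O := ⟨ε m z, hzO, by rw [hz]; rfl⟩
    let g : N.toScheme ⟶ C := N.ι ≫ ε m ≫ U.ι
    have hgr : Set.range g = (fun t => U.ι (ε m t)) '' (N : Set (F m)) := by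
      ext c
      constructor
      · rintro ⟨n, rfl⟩
        exact ⟨n.1, n.2, rfl⟩
      · rintro ⟨t, ht, rfl⟩
        exact ⟨⟨t, ht⟩, rfl⟩
    have hsub : Z ∩ O ⊆ Set.range g := by
      rintro _ ⟨hyZ, y, hy, rfl⟩
      obtain ⟨t, rfl⟩ := hm hyZ
      rw [hgr]
      exact ⟨t, hNO.le hy, rfl⟩
    have hgZ : Set.range g ⊆ Z := by
      have hirr : IsIrreducible (closure (Set.range g)) := by
        rw [hgr]
        exact (hN.image _ (U.ι.continuous.comp (ε m).continuous).continuousOn).closure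
      have hle : Z ⊆ closure (Set.range g) :=
        (subset_closure_inter_of_isPreirreducible_of_isOpen hZ.1.2 O.isOpen ⟨e w, hxZ, hxO⟩).trans
          (closure_mono hsub)
      exact subset_closure.trans (hZ.2 hirr hle)
    have hgO : Set.range g ⊆ O := by
      rw [hgr]
      rintro _ ⟨t, ht, rfl⟩
      exact ⟨ε m t, hNO.ge ht, rfl⟩
    let W : (Scheme.IdealSheafData.vanishingIdeal T).subscheme.Opens := e ⁻¹ᵁ O
    have hWr : Set.range (W.ι ≫ e) = Set.range g := by
      ext c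
      constructor
      · rintro ⟨v, rfl⟩
        exact hsub ⟨he ▸ ⟨v.1, rfl⟩, v.2⟩
      · intro hc
        obtain ⟨v, rfl⟩ : c ∈ Set.range e := he ▸ hgZ hc
        exact ⟨⟨v, hgO hc⟩, rfl⟩
    obtain ⟨E, hE⟩ := RedSepLib.exists_iso_of_range_eq (W.ι ≫ e) g hWr
    refine ⟨W, hxO, ?_⟩
    rw [show W.ι ≫ e ≫ φ = E.hom ≫ N.ι ≫ (ε m ≫ U.ι ≫ φ) by
      rw [← Category.assoc, ← hE]; simp [g]]
    infer_instance
  choose W hwW hW using key
  refine (IsZariskiLocalAtSource.iff_of_iSup_eq_top (P := @Smooth) W ?_).2 hW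
  exact top_unique fun w _ => TopologicalSpace.Opens.mem_iSup.2 ⟨w, hwW w⟩

end Groth.Agent.StrictSSLib
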