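import Groth.Agent.StrictSSLib.Model
import Groth.Agent.NodePtLib.Family

/-!
# Fibres of schemes etale over the model of a node
-/

set_option autoImplicit false
set_option backward.isDefEq.respectTransparency false
set_option linter.style.haveILetI false

universe u

open CategoryTheory CategoryTheory.Limits AlgebraicGeometry IsLocalRing

noncomputable section

namespace Groth.Agent.StrictSSLib

/-- Base change of the model. -/
theorem isPushout_model {A K : CommRingCat.{u}} (φ : A ⟶ K) (a : A) :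
    ∃ ι : CommRingCat.of (StrictSS.NodeAlg A a) ⟶ CommRingCat.of (StrictSS.NodeAlg K (φ a)),
      IsPushout (CommRingCat.ofHom (algebraMap A (StrictSS.NodeAlg A a))) φ ι
        (CommRingCat.ofHom (algebraMap K (StrictSS.NodeAlg K (φ a)))) := by
  letI : Algebra A K := φ.hom.toAlgebra
  let M := StrictSS.NodeAlg K (φ a)
  let M₀ := StrictSS.NodeAlg A a
  letI : Algebra A M := ((algebraMap K M).comp φ.hom).toAlgebra
  let ι₀ : M₀ →ₐ[A] M := coLift A a (co K (φ a)) (co_mul K (φ a))
  refine ⟨CommRingCat.ofHom ι₀.toRingHom, ?_⟩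
  have w : CommRingCat.ofHom (algebraMap A M₀) ≫ CommRingCat.ofHom ι₀.toRingHom = φ ≫ CommRingCat.ofHom (algebraMap K M) :=
    CommRingCat.hom_ext (RingHom.ext fun r => ι₀.commutes r)
  refine IsPushout.of_isColimit' ⟨w⟩ ?_
  refine PushoutCocone.IsColimit.mk w
    (fun s => CommRingCat.ofHom
      (letI : Algebra K s.pt := s.inr.hom.toAlgebra
       (coLift K (φ a) (B := s.pt) (fun i => s.inl (co A a i)) (by
          rw [← map_mul, co_mul]
          exact RingHom.congr_fun (congrArg CommRingCat.Hom.hom s.condition) a)).toRingHom))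
    (fun s => ?_) (fun s => ?_) (fun s m hm1 hm2 => ?_)
  · letI : Algebra K s.pt := s.inr.hom.toAlgebra
    refine CommRingCat.hom_ext (hom_ext A a _ _ (RingHom.ext fun r => ?_) fun i => ?_)
    · simp only [CommRingCat.hom_comp, CommRingCat.hom_ofHom, RingHom.comp_apply]
      refine ((congrArg _ (ι₀.commutes r)).trans ?_).trans (RingHom.congr_fun (congrArg CommRingCat.Hom.hom s.condition) r).symm
      exact AlgHom.commutes _ (φ r)
    · simp only [CommRingCat.hom_comp, CommRingCat.hom_ofHom, RingHom.comp_apply, AlgHom.toRingHom_eq_coe, RingHom.coe_coe]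
      rw [show ι₀ (co A a i) = co K (φ a) i from coLift_co A a _ _ i, coLift_co]
  · letI : Algebra K s.pt := s.inr.hom.toAlgebra
    refine CommRingCat.hom_ext (RingHom.ext fun r => ?_)
    simp only [CommRingCat.hom_comp, CommRingCat.hom_ofHom, RingHom.comp_apply, AlgHom.toRingHom_eq_coe, RingHom.coe_coe]
    exact AlgHom.commutes _ r
  · letI : Algebra K s.pt := s.inr.hom.toAlgebra
    refine CommRingCat.hom_ext (hom_ext K (φ a) _ _ (RingHom.ext fun r => ?_) fun i => ?_)
    · simp only [RingHom.comp_apply, CommRingCat.hom_ofHom]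
      refine (RingHom.congr_fun (congrArg CommRingCat.Hom.hom hm2) r).trans ?_
      exact (AlgHom.commutes (coLift K (φ a) (B := s.pt) _ _) r).symm
    · simp only [CommRingCat.hom_ofHom, AlgHom.toRingHom_eq_coe, RingHom.coe_coe]
      rw [coLift_co, ← coLift_co A a (co K (φ a)) (co_mul K (φ a)) i]
      exact RingHom.congr_fun (congrArg CommRingCat.Hom.hom hm1) (co A a i)

/-- A point of the model over a field is smooth or an ordinary double point. -/
theorem model_point {K : Type u} [Field K] (a : K) (x : Spec (CommRingCat.of (StrictSS.NodeAlg K a))) :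
    letI : (Spec (CommRingCat.of (StrictSS.NodeAlg K a))).Over (Spec (CommRingCat.of K)) := ⟨StrictSS.nodeToBase K a⟩
    (∃ U : (Spec (CommRingCat.of (StrictSS.NodeAlg K a))).Opens, x ∈ U ∧ Smooth (U.ι ≫ StrictSS.nodeToBase K a)) ∨
      (letI := Curv2.stalkAlgebra K (Spec (CommRingCat.of (StrictSS.NodeAlg K a))) x
       Curv2.IsOrdDoublePt K ((Spec (CommRingCat.of (StrictSS.NodeAlg K a))).presheaf.stalk x)) := by
  rcases cases_point K a x.asIdeal with ⟨i, hi⟩ | ⟨h0, h1⟩
  · exact Or.inl (smooth_nhd K a i x hi)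
  · refine Or.inr ?_
    obtain rfl : a = 0 := by
      by_contra ha
      refine Ideal.IsPrime.ne_top' (x.asIdeal.eq_top_of_isUnit_mem ?_ ((isUnit_iff_ne_zero.2 ha).map (algebraMap K _)))
      rw [← co_mul]
      exact x.asIdeal.mul_mem_right _ h0
    let V := Spec (CommRingCat.of (StrictSS.NodeAlg K (0 : K)))
    letI := Curv2.stalkAlgebra K V x
    let ψ : StrictSS.NodeAlg K (0 : K) →+* V.presheaf.stalk x :=
      (V.presheaf.germ ⊤ x trivial).hom.comp (Scheme.ΓSpecIso (CommRingCat.of (StrictSS.NodeAlg K (0 : K)))).inv.hom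
    letI : Algebra (StrictSS.NodeAlg K (0 : K)) (V.presheaf.stalk x) := ψ.toAlgebra
    haveI : IsLocalization.AtPrime (V.presheaf.stalk x) x.asIdeal :=
      inferInstanceAs (IsLocalization.AtPrime
        ((AlgebraicGeometry.Spec.structureSheaf (StrictSS.NodeAlg K (0 : K))).presheaf.stalk x) x.asIdeal)
    haveI : IsScalarTower K (StrictSS.NodeAlg K (0 : K)) (V.presheaf.stalk x) := IsScalarTower.of_algebraMap_eq fun c => by
      show Curv2.stalkMap K V x c = ψ (algebraMap K _ c)
      exact congrArg (V.presheaf.germ ⊤ x trivial) (congrArg (fun g => g c)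
        (Scheme.ΓSpecIso_inv_naturality (CommRingCat.ofHom (algebraMap K (StrictSS.NodeAlg K (0 : K)))))).symm
    haveI : IsNoetherianRing (V.presheaf.stalk x) :=
      IsLocalization.isNoetherianRing x.asIdeal.primeCompl _ inferInstance
    exact isOrdDoublePt_origin K x.asIdeal (V.presheaf.stalk x) h0 h1

/-- Fibres of schemes etale over a node model are at worst nodal. -/
theorem atWorstNodal_fibre {U S : Scheme.{u}} {A : CommRingCat.{u}} (j : Spec A ⟶ S) [IsOpenImmersion j]
    (q : U ⟶ Spec A) (a : A) (f : U ⟶ Spec (CommRingCat.of (StrictSS.NodeAlg A a))) [Etale f]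
    (hf : f ≫ StrictSS.nodeToBase A a = q) [LocallyOfFinitePresentation (q ≫ j)] (s : S) :
    @Curv2.AtWorstNodal (S.residueField s) _ ((q ≫ j).fiber s) ⟨(q ≫ j).fiberToSpecResidueField s⟩ := by
  letI : ((q ≫ j).fiber s).Over (Spec (CommRingCat.of (S.residueField s))) := ⟨(q ≫ j).fiberToSpecResidueField s⟩
  intro x hx
  let ψ := q ≫ j
  let k := S.residueField s
  let G := ψ.fiber s
  let K := AlgebraicClosure k
  let W := Curv2.bc k G K
  letI : W.Over (Spec (CommRingCat.of K)) := ⟨Curv2.bcSnd k G K⟩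
  haveI : LocallyOfFinitePresentation (G ↘ Spec (CommRingCat.of k)) :=
    inferInstanceAs (LocallyOfFinitePresentation (pullback.snd ψ _))
  obtain ⟨xb, hxb⟩ := NodePtLib.surjective_bcFst (k := k) (X := G) K x
  have hxbc : IsClosed ({xb} : Set W) := NodalLib.closed_over hx xb hxb
  let g : Spec (CommRingCat.of K) ⟶ S := Spec.map (CommRingCat.ofHom (algebraMap k K)) ≫ S.fromSpecResidueField s
  have hW : IsPullback (Curv2.bcFst k G K ≫ ψ.fiberι s) (Curv2.bcSnd k G K) ψ g :=
    (IsPullback.of_hasPullback _ _).paste_horiz (IsPullback.of_hasPullback ψ (S.fromSpecResidueField s))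
  have hrange : Set.range g ⊆ Set.range j := by
    rintro _ ⟨z, rfl⟩
    have hz : g z = s := by
      rw [Scheme.Hom.comp_apply]
      exact Scheme.fromSpecResidueField_apply s _
    refine ⟨q (ψ.fiberι s x), ?_⟩
    rw [hz, ← Scheme.Hom.comp_apply]
    have hxs : ψ.fiberι s x ∈ Set.range (ψ.fiberι s) := ⟨x, rfl⟩
    rw [ψ.range_fiberι] at hxs
    exact hxs
  let g' := IsOpenImmersion.lift j g hrange
  have hg' : g' ≫ j = g := IsOpenImmersion.lift_fac _ _ _
  let φ : A ⟶ CommRingCat.of K := Spec.preimage g'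
  obtain ⟨ι, hι⟩ := isPushout_model φ a
  let M := Spec (CommRingCat.of (StrictSS.NodeAlg K (φ a)))
  have hP : IsPullback (Spec.map ι) (StrictSS.nodeToBase K (φ a)) (StrictSS.nodeToBase A a) g' := by
    have := isPullback_SpecMap_of_isPushout _ _ _ _ hι
    rw [Spec.map_preimage] at this
    exact this
  have hWA : IsPullback (Curv2.bcFst k G K ≫ ψ.fiberι s) (Curv2.bcSnd k G K) q g' := by
    have hbot : IsPullback g' (𝟙 _) j g := IsPullback.of_vert_isIso_mono ⟨by simp [hg']⟩
    refine IsPullback.of_bot (v₂₁ := 𝟙 _) ?_ ?_ hbot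
    · rw [Category.comp_id]; exact hW
    · rw [← cancel_mono j, Category.assoc, Category.assoc (Curv2.bcSnd k G K), hg']
      exact hW.w
  let m : W ⟶ M := hP.lift ((Curv2.bcFst k G K ≫ ψ.fiberι s) ≫ f) (Curv2.bcSnd k G K) (by
    rw [Category.assoc, hf]; exact hWA.w)
  have hm : m ≫ StrictSS.nodeToBase K (φ a) = Curv2.bcSnd k G K := hP.lift_snd _ _ _
  have sq : IsPullback (Curv2.bcFst k G K ≫ ψ.fiberι s) m f (Spec.map ι) :=
    IsPullback.of_bot (by rw [hm, hf]; exact hWA) (hP.lift_fst _ _ _).symm hP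
  haveI : Etale m := MorphismProperty.of_isPullback sq inferInstance
  letI : M.Over (Spec (CommRingCat.of K)) := ⟨StrictSS.nodeToBase K (φ a)⟩
  haveI : LocallyOfFiniteType (M ↘ Spec (CommRingCat.of K)) := by
    show LocallyOfFiniteType (StrictSS.nodeToBase K (φ a))
    rw [HasRingHomProperty.Spec_iff (P := @LocallyOfFiniteType), CommRingCat.hom_ofHom, RingHom.finiteType_algebraMap]
    infer_instance
  rcases model_point (φ a) (m xb) with ⟨V, hV, hVs⟩ | hord
  · refine Or.inl ?_
    rw [← hxb]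
    refine (PointBC.smooth_nhd_iff (G ↘ Spec (CommRingCat.of k)) _ xb (Or.inr NodePtLib.stalkMap_ofHom_flat)).1
      ⟨m ⁻¹ᵁ V, hV, ?_⟩
    haveI : Smooth (V.ι ≫ StrictSS.nodeToBase K (φ a)) := hVs
    haveI : Etale (m ∣_ V) := IsZariskiLocalAtTarget.restrict (P := @Etale) inferInstance V
    show Smooth ((m ⁻¹ᵁ V).ι ≫ Curv2.bcSnd k G K)
    rw [← hm, ← Category.assoc, ← morphismRestrict_ι m V, Category.assoc]
    infer_instance
  · exact Or.inr ⟨hx, xb, hxb, (NodalLib.ordPt_iff_of_etale (K := K) m hm hxbc).1 hord⟩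

end Groth.Agent.StrictSSLib
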