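import Mathlib
import Groth.Prelude.Def_StrictSS
import Groth.Prelude.Def_CurvBase
import Groth.Agent.NodePtLib.Compl
import Groth.Agent.NodePtLib.Crit

/-!
# The model of a node
-/

set_option autoImplicit false
set_option backward.isDefEq.respectTransparency false
set_option linter.style.haveILetI false

universe u

open CategoryTheory CategoryTheory.Limits AlgebraicGeometry IsLocalRing

noncomputable section

namespace Groth.Agent.StrictSSLib

variable (A : Type u) [CommRing A] (a : A)

local notation "R" => StrictSS.NodeAlg A a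

/-- The coordinates of the model. -/
def co (i : Fin 2) : R := Ideal.Quotient.mk _ (MvPolynomial.X i)

theorem co_mul : co A a 0 * co A a 1 = algebraMap A R a := by
  unfold co
  rw [← map_mul, IsScalarTower.algebraMap_apply A (MvPolynomial (Fin 2) A) R, Ideal.Quotient.algebraMap_eq,
    MvPolynomial.algebraMap_eq]
  exact Ideal.Quotient.eq.mpr (Ideal.subset_span rfl)

theorem co_mul_other {i j : Fin 2} (h : i ≠ j) : co A a i * co A a j = algebraMap A R a := by
  fin_cases i <;> fin_cases j
  · exact absurd rfl h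
  · exact co_mul A a
  · exact (mul_comm _ _).trans (co_mul A a)
  · exact absurd rfl h

/-- Maps out of the model. -/
def coLift {B : Type u} [CommRing B] [Algebra A B] (g : Fin 2 → B) (hg : g 0 * g 1 = algebraMap A B a) : R →ₐ[A] B :=
  Ideal.Quotient.liftₐ _ (MvPolynomial.aeval g) fun x hx => by
    obtain ⟨c, rfl⟩ := Ideal.mem_span_singleton'.1 hx
    rw [map_mul, map_sub, map_mul, MvPolynomial.aeval_X, MvPolynomial.aeval_X, MvPolynomial.aeval_C, hg, sub_self, mul_zero]

theorem coLift_co {B : Type u} [CommRing B] [Algebra A B] (g : Fin 2 → B) (hg : g 0 * g 1 = algebraMap A B a) (i : Fin 2) :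
    coLift A a g hg (co A a i) = g i :=
  (Ideal.Quotient.liftₐ_apply _ _ _ _).trans (MvPolynomial.aeval_X g i)

theorem hom_ext {B : Type u} [CommRing B] (f g : R →+* B) (hA : f.comp (algebraMap A R) = g.comp (algebraMap A R))
    (h : ∀ i, f (co A a i) = g (co A a i)) : f = g := by
  refine Ideal.Quotient.ringHom_ext (MvPolynomial.ringHom_ext (fun r => ?_) h)
  exact RingHom.congr_fun hA r

/-- Where a coordinate is invertible the model is smooth. -/
theorem smooth_away (i : Fin 2) : Algebra.Smooth A (Localization.Away (co A a i)) := by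
  let P := Localization.Away (Polynomial.X : Polynomial A)
  let T : P := algebraMap (Polynomial A) P Polynomial.X
  have hT : IsUnit T := IsLocalization.Away.algebraMap_isUnit _
  let g : Fin 2 → P := fun j => if j = i then T else algebraMap A P a * ↑hT.unit⁻¹
  have hg : g 0 * g 1 = algebraMap A P a := by
    have h1 : T * ↑hT.unit⁻¹ = 1 := hT.mul_val_inv
    fin_cases i
    · simp only [g]; simp; rw [mul_left_comm, h1, mul_one]
    · simp only [g]; simp; rw [mul_assoc, mul_comm (↑hT.unit⁻¹ : P) T, h1, mul_one]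
  let φ₀ : R →ₐ[A] P := coLift A a g hg
  have hφu : IsUnit (φ₀ (co A a i)) := by rw [coLift_co]; simpa [g] using hT
  let Q := Localization.Away (co A a i)
  let φ : Q →+* P := IsLocalization.Away.lift (co A a i) (g := φ₀.toRingHom) hφu
  let ψ₀ : Polynomial A →+* Q := Polynomial.eval₂RingHom (algebraMap A Q) (algebraMap R Q (co A a i))
  have hψu : IsUnit (ψ₀ Polynomial.X) := by
    simpa [ψ₀] using IsLocalization.Away.algebraMap_isUnit (S := Q) (co A a i)
  let ψ : P →+* Q := IsLocalization.Away.lift Polynomial.X (g := ψ₀) hψu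
  have hψ : ∀ p, ψ (algebraMap (Polynomial A) P p) = ψ₀ p := IsLocalization.Away.lift_eq _ _
  have hφ : ∀ p, φ (algebraMap R Q p) = φ₀ p := IsLocalization.Away.lift_eq _ _
  have hφA : ∀ r, φ (algebraMap A Q r) = algebraMap A P r := fun r => by
    rw [IsScalarTower.algebraMap_apply A R Q, hφ]; exact φ₀.commutes r
  have hψA : ∀ r, ψ (algebraMap A P r) = algebraMap A Q r := fun r => by
    rw [IsScalarTower.algebraMap_apply A (Polynomial A) P, hψ]
    simp [ψ₀]
  have h1 : φ.comp ψ = RingHom.id P := by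
    refine IsLocalization.ringHom_ext (Submonoid.powers (Polynomial.X : Polynomial A)) (Polynomial.ringHom_ext (fun r => ?_) ?_)
    · simp only [RingHom.comp_apply, RingHom.id_apply, hψ]
      rw [show ψ₀ (Polynomial.C r) = algebraMap A Q r by simp [ψ₀], hφA,
        IsScalarTower.algebraMap_apply A (Polynomial A) P]
      rfl
    · simp only [RingHom.comp_apply, RingHom.id_apply, hψ]
      rw [show ψ₀ Polynomial.X = algebraMap R Q (co A a i) by simp [ψ₀], hφ, coLift_co]
      simp [g, T]
  have hψT : ψ T = algebraMap R Q (co A a i) := by rw [hψ]; simp [ψ₀]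
  have h2 : ψ.comp φ = RingHom.id Q := by
    refine IsLocalization.ringHom_ext (Submonoid.powers (co A a i)) (hom_ext A a _ _ (RingHom.ext fun r => ?_) fun j => ?_)
    · simp only [RingHom.comp_apply, RingHom.id_apply, hφ]
      rw [show φ₀ (algebraMap A R r) = algebraMap A P r from φ₀.commutes r, hψA, IsScalarTower.algebraMap_apply A R Q]
    · simp only [RingHom.comp_apply, RingHom.id_apply, hφ, coLift_co, φ₀]
      by_cases hj : j = i
      · simpa [g, hj] using hψT
      · simp only [g, if_neg hj]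
        have hu : IsUnit (algebraMap R Q (co A a i)) := IsLocalization.Away.algebraMap_isUnit _
        refine hu.mul_left_cancel ?_
        rw [← map_mul, co_mul_other A a (Ne.symm hj), ← IsScalarTower.algebraMap_apply A R Q, ← hψA, ← hψT, ← map_mul,
          mul_left_comm, hT.mul_val_inv, mul_one]
  haveI : Algebra.Smooth A (Polynomial A) := ⟨inferInstance, inferInstance⟩
  haveI : Algebra.Smooth A P := Algebra.Smooth.comp A (Polynomial A) P
  exact Algebra.Smooth.of_equiv (AlgEquiv.ofRingEquiv (f := RingEquiv.ofRingHom ψ φ h2 h1) fun r => hψA r)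

/-- The model is smooth off the origin. -/
theorem smooth_nhd (i : Fin 2) (x : Spec (CommRingCat.of R)) (hx : co A a i ∉ x.asIdeal) :
    ∃ U : (Spec (CommRingCat.of R)).Opens, x ∈ U ∧ Smooth (U.ι ≫ StrictSS.nodeToBase A a) := by
  let Q := Localization.Away (co A a i)
  let j : Spec (CommRingCat.of Q) ⟶ Spec (CommRingCat.of R) := Spec.map (CommRingCat.ofHom (algebraMap R Q))
  haveI : IsOpenImmersion j := IsOpenImmersion.of_isLocalization (co A a i)
  refine ⟨j.opensRange, ?_, ?_⟩
  · show x ∈ Set.range (PrimeSpectrum.comap (algebraMap R Q))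
    rw [PrimeSpectrum.localization_away_comap_range Q (co A a i)]
    exact hx
  · have h : j ≫ StrictSS.nodeToBase A a = Spec.map (CommRingCat.ofHom (algebraMap A Q)) := by
      rw [← Spec.map_comp, ← CommRingCat.ofHom_comp, ← IsScalarTower.algebraMap_eq]
    haveI : Smooth (j ≫ StrictSS.nodeToBase A a) := by
      rw [h, HasRingHomProperty.Spec_iff (P := @Smooth), CommRingCat.hom_ofHom, RingHom.smooth_algebraMap]
      exact smooth_away A a i
    rw [← j.isoOpensRange_inv_comp, Category.assoc]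
    infer_instance

/-- Outside the origin one of the coordinates is invertible. -/
theorem cases_point (p : Ideal R) [p.IsPrime] :
    (∃ i, co A a i ∉ p) ∨ (co A a 0 ∈ p ∧ co A a 1 ∈ p) := by
  by_cases h0 : co A a 0 ∈ p
  · by_cases h1 : co A a 1 ∈ p
    · exact Or.inr ⟨h0, h1⟩
    · exact Or.inl ⟨1, h1⟩
  · exact Or.inl ⟨0, h0⟩

section Origin

variable (K : Type u) [Field K]


theorem exists_const (r : (StrictSS.NodeAlg K (0 : K))) : ∃ c : K, r - algebraMap K (StrictSS.NodeAlg K (0 : K)) c ∈ Ideal.span {co K 0 0, co K 0 1} := by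
  obtain ⟨f, rfl⟩ := Ideal.Quotient.mk_surjective r
  induction f using MvPolynomial.induction_on with
  | C c => exact ⟨c, by
      rw [IsScalarTower.algebraMap_apply K (MvPolynomial (Fin 2) K) (StrictSS.NodeAlg K (0 : K)), Ideal.Quotient.algebraMap_eq,
        MvPolynomial.algebraMap_eq, sub_self]
      exact Ideal.zero_mem _⟩
  | add f g hf hg =>
    obtain ⟨c, hc⟩ := hf
    obtain ⟨d, hd⟩ := hg
    exact ⟨c + d, by rw [map_add, map_add, add_sub_add_comm]; exact add_mem hc hd⟩
  | mul_X f n _ =>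
    refine ⟨0, ?_⟩
    have hz : algebraMap K (StrictSS.NodeAlg K (0 : K)) 0 = 0 := map_zero _
    rw [hz, sub_zero, map_mul]
    exact Ideal.mul_mem_left _ _ (Ideal.subset_span (by fin_cases n <;> simp [co]))

theorem eq_span (p : Ideal (StrictSS.NodeAlg K (0 : K))) [p.IsPrime] (h0 : co K 0 0 ∈ p) (h1 : co K 0 1 ∈ p) :
    p = Ideal.span {co K 0 0, co K 0 1} := by
  have hle : Ideal.span {co K 0 0, co K 0 1} ≤ p :=
    Ideal.span_le.2 (Set.insert_subset h0 (Set.singleton_subset_iff.2 h1))
  refine le_antisymm (fun r hr => ?_) hle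
  obtain ⟨c, hc⟩ := exists_const K r
  by_cases h : c = 0
  · simpa [h] using hc
  · exfalso
    have hm : algebraMap K (StrictSS.NodeAlg K (0 : K)) c ∈ p := by simpa using p.sub_mem hr (hle hc)
    exact Ideal.IsPrime.ne_top' (p.eq_top_of_isUnit_mem hm ((isUnit_iff_ne_zero.2 h).map _))

theorem sum_mul_eq_zero {r : (StrictSS.NodeAlg K (0 : K))} (h : (co K 0 0 + co K 0 1) * r = 0) : r = 0 := by
  obtain ⟨f, rfl⟩ := Ideal.Quotient.mk_surjective r
  unfold co at h
  rw [← map_add, ← map_mul, Ideal.Quotient.eq_zero_iff_dvd] at h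
  rw [Ideal.Quotient.eq_zero_iff_dvd]
  simp only [map_zero, sub_zero] at h ⊢
  have ne : ∀ {i j : Fin 2}, i ≠ j → ¬ (MvPolynomial.X i : MvPolynomial (Fin 2) K) ∣ MvPolynomial.X j :=
    fun {i j} hij hd => hij (MvPolynomial.X_dvd_X.1 hd)
  have d0 : (MvPolynomial.X 0 : MvPolynomial (Fin 2) K) ∣ MvPolynomial.X 1 * f := by
    have := (dvd_mul_right _ _).trans h
    rw [add_mul] at this
    exact (dvd_add_right (dvd_mul_right _ _)).1 this
  obtain ⟨g, rfl⟩ := ((MvPolynomial.X_prime.dvd_or_dvd d0).resolve_left (ne (by decide)))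
  have d1 : (MvPolynomial.X 1 : MvPolynomial (Fin 2) K) ∣ MvPolynomial.X 0 * (MvPolynomial.X 0 * g) := by
    have := (dvd_mul_left _ _).trans h
    rw [add_mul] at this
    exact (dvd_add_left (dvd_mul_right _ _)).1 this
  rcases MvPolynomial.X_prime.dvd_or_dvd d1 with h' | h'
  · exact absurd h' (ne (by decide))
  rcases MvPolynomial.X_prime.dvd_or_dvd h' with h' | h'
  · exact absurd h' (ne (by decide))
  · exact mul_dvd_mul_left _ h'

variable (p : Ideal (StrictSS.NodeAlg K (0 : K))) [p.IsPrime] (O : Type u) [CommRing O] [IsLocalRing O] [IsNoetherianRing O]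
  [Algebra (StrictSS.NodeAlg K (0 : K)) O] [IsLocalization.AtPrime O p] [Algebra K O] [IsScalarTower K (StrictSS.NodeAlg K (0 : K)) O]

/-- The tangent directions at the origin. -/
theorem exists_jet (h0 : co K 0 0 ∈ p) (h1 : co K 0 1 ∈ p) :
    ∃ Φ : O →+* TrivSqZeroExt K (K × K), Φ (algebraMap (StrictSS.NodeAlg K (0 : K)) O (co K 0 0)) = TrivSqZeroExt.inr (1, 0) ∧
      Φ (algebraMap (StrictSS.NodeAlg K (0 : K)) O (co K 0 1)) = TrivSqZeroExt.inr (0, 1) := by
  let g : Fin 2 → TrivSqZeroExt K (K × K) := ![TrivSqZeroExt.inr (1, 0), TrivSqZeroExt.inr (0, 1)]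
  let φ₀ : (StrictSS.NodeAlg K (0 : K)) →ₐ[K] TrivSqZeroExt K (K × K) := coLift K 0 g (by simp [g, TrivSqZeroExt.inr_mul_inr])
  have hu : ∀ s : p.primeCompl, IsUnit (φ₀.toRingHom s) := fun s => by
    rw [TrivSqZeroExt.isUnit_iff_isUnit_fst, isUnit_iff_ne_zero]
    intro hs
    apply s.2
    obtain ⟨c, hc⟩ := exists_const K (s : (StrictSS.NodeAlg K (0 : K)))
    rw [← eq_span K p h0 h1] at hc
    have hp : ∀ r ∈ p, (φ₀ r).fst = 0 := by
      rw [eq_span K p h0 h1]
      intro r hr
      obtain ⟨b, d, rfl⟩ := Ideal.mem_span_pair.1 hr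
      simp [φ₀, coLift_co, g]
    have h' := hp _ hc
    rw [map_sub, φ₀.commutes, TrivSqZeroExt.fst_sub] at h'
    have hs' : (φ₀ (s : (StrictSS.NodeAlg K (0 : K)))).fst = 0 := hs
    rw [hs', zero_sub, neg_eq_zero] at h'
    have hc0 : c = 0 := by simpa [TrivSqZeroExt.algebraMap_eq_inl] using h'
    simpa [hc0] using hc
  refine ⟨IsLocalization.lift (S := O) hu, ?_, ?_⟩ <;> rw [IsLocalization.lift_eq] <;>
    exact coLift_co K 0 g _ _

/-- The origin of the model with parameter zero is an ordinary double point. -/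
theorem isOrdDoublePt_origin (h0 : co K 0 0 ∈ p) (h1 : co K 0 1 ∈ p) : Curv2.IsOrdDoublePt K O := by
  have hm : maximalIdeal O = Ideal.span {algebraMap (StrictSS.NodeAlg K (0 : K)) O (co K 0 0), algebraMap (StrictSS.NodeAlg K (0 : K)) O (co K 0 1)} := by
    rw [← IsLocalization.AtPrime.map_eq_maximalIdeal p O]
    conv_lhs => rw [eq_span K p h0 h1]
    rw [Ideal.map_span, Set.image_insert_eq, Set.image_singleton]
  have hK : NodePtLib.Rational K O := fun z => by
    obtain ⟨⟨r, s⟩, hz⟩ := IsLocalization.surj p.primeCompl z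
    obtain ⟨c, hc⟩ := exists_const K r
    obtain ⟨d, hd⟩ := exists_const K (s : (StrictSS.NodeAlg K (0 : K)))
    rw [← eq_span K p h0 h1] at hc hd
    have hd0 : d ≠ 0 := fun h => s.2 (by simpa [h] using hd)
    refine ⟨c / d, ?_⟩
    have hu : IsUnit (algebraMap (StrictSS.NodeAlg K (0 : K)) O (s : (StrictSS.NodeAlg K (0 : K)))) := IsLocalization.map_units O s
    rw [← Ideal.unit_mul_mem_iff_mem _ hu, mul_sub, mul_comm, hz,
      IsScalarTower.algebraMap_apply K (StrictSS.NodeAlg K (0 : K)) O, ← map_mul, ← map_sub, ← IsLocalization.AtPrime.map_eq_maximalIdeal p O]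
    refine Ideal.mem_map_of_mem _ ?_
    have he : r - (s : (StrictSS.NodeAlg K (0 : K))) * algebraMap K (StrictSS.NodeAlg K (0 : K)) (c / d) =
        (r - algebraMap K (StrictSS.NodeAlg K (0 : K)) c) - ((s : (StrictSS.NodeAlg K (0 : K))) - algebraMap K (StrictSS.NodeAlg K (0 : K)) d) * algebraMap K (StrictSS.NodeAlg K (0 : K)) (c / d) := by
      rw [sub_mul, ← map_mul, mul_div_cancel₀ c hd0]; ring
    rw [he]
    exact sub_mem hc (Ideal.mul_mem_right _ _ hd)
  have hg : NodePtLib.Gens (algebraMap (StrictSS.NodeAlg K (0 : K)) O (co K 0 0)) (algebraMap (StrictSS.NodeAlg K (0 : K)) O (co K 0 1)) := by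
    refine ⟨hm, ?_⟩
    have hz : algebraMap (StrictSS.NodeAlg K (0 : K)) O (algebraMap K (StrictSS.NodeAlg K (0 : K)) 0) = 0 :=
      (congrArg _ ((algebraMap K (StrictSS.NodeAlg K (0 : K))).map_zero)).trans (RingHom.map_zero _)
    rw [← map_mul, co_mul, hz]
    exact Ideal.zero_mem _
  refine (NodePtLib.isOrdDoublePt_iff K O hK).2 ⟨?_, _, _, hg⟩
  refine NodePtLib.nodeDim_of_gens hK hg (t := algebraMap (StrictSS.NodeAlg K (0 : K)) O (co K 0 0 + co K 0 1)) ?_ ?_ ?_
  · rw [map_add]; exact add_mem hg.mem_left hg.mem_right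
  · rw [mem_nonZeroDivisors_iff_right]
    intro z hz
    obtain ⟨⟨r, s⟩, hzs⟩ := IsLocalization.surj p.primeCompl z
    have h' : algebraMap (StrictSS.NodeAlg K (0 : K)) O (r * (co K 0 0 + co K 0 1)) = 0 := by
      rw [map_mul, ← hzs, mul_right_comm, hz, zero_mul]
    obtain ⟨c, hc⟩ := (IsLocalization.map_eq_zero_iff p.primeCompl O _).1 h'
    have hr : (c : (StrictSS.NodeAlg K (0 : K))) * r = 0 := sum_mul_eq_zero K (by rw [← hc]; ring)
    have hz0 : algebraMap (StrictSS.NodeAlg K (0 : K)) O r = 0 := (IsLocalization.map_eq_zero_iff p.primeCompl O _).2 ⟨c, hr⟩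
    rw [hz0] at hzs
    exact (IsLocalization.map_units O s).mul_left_eq_zero.1 hzs
  · intro c hc
    obtain ⟨Φ, hΦ0, hΦ1⟩ := exists_jet K p O h0 h1
    obtain ⟨α, β, hab⟩ := Ideal.mem_span_pair.1 (hm.le (hc.ge (Ideal.mem_span_singleton_self c)))
    obtain ⟨r, hr⟩ := Ideal.mem_span_singleton'.1 (hc.le hg.mem_left)
    obtain ⟨s, hs⟩ := Ideal.mem_span_singleton'.1 (hc.le hg.mem_right)
    have hc0 : (Φ c).fst = 0 := by rw [← hab]; simp [hΦ0, hΦ1]
    have e0 : (Φ r).fst • (Φ c).snd = ((1, 0) : K × K) := by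
      have := congrArg (fun z => (Φ z).snd) hr
      simpa [hΦ0, hc0] using this
    have e1 : (Φ s).fst • (Φ c).snd = ((0, 1) : K × K) := by
      have := congrArg (fun z => (Φ z).snd) hs
      simpa [hΦ1, hc0] using this
    simp only [Prod.ext_iff, Prod.smul_fst, Prod.smul_snd, smul_eq_mul] at e0 e1
    have hα : (Φ r).fst ≠ 0 := left_ne_zero_of_mul_eq_one e0.1
    have hw : (Φ c).snd.2 = 0 := (mul_eq_zero.1 e0.2).resolve_left hα
    rw [hw, mul_zero] at e1
    exact zero_ne_one e1.2

end Origin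

end Groth.Agent.StrictSSLib
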